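import Groth.Agent.CohenStruct.N2
import Groth.Agent.DepthLib.FlatDepth
import Mathlib.RingTheory.IntegralClosure.IsIntegral.AlmostIntegral
import Mathlib.RingTheory.Flat.EquationalCriterion
import Mathlib.RingTheory.Polynomial.ScaleRoots
import Mathlib.RingTheory.QuasiFinite.Basic

/-!
# The integral closure of a Noetherian local domain (Mori–Nagata)

`A` is a Noetherian local domain with fraction field `K`, `Ah` its completion, `A' = integralClosure A K`.
For a minimal prime `P` of `Ah`, `Nm P` is the (finite) normalisation of `Ah ⧸ P`.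

* `isIntegral_of_forall`: `A'` is the intersection of `K` with the `Nm P`.
* `finite_maximal`, `finite_primes_over`: the fibres of `A'` over `A` are finite.
* `mem_of_forall_height_one`: `A'` is the intersection of its height-one localisations.
* `exists_bad_finite`: away from finitely many primes of `A`, height-one primes of `A'` lie over
  height-one primes of `A`, with only one prime above each.
-/

universe u

open IsLocalRing Polynomial

namespace Groth.Agent.MoriNagata

variable (A : Type u) [CommRing A] [IsDomain A] [IsNoetherianRing A] [IsLocalRing A]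
variable (K : Type u) [Field K] [Algebra A K] [IsFractionRing A K]

/-- The completion. -/
abbrev Ah : Type u := AdicCompletion (maximalIdeal A) A

/-- A minimal prime of the completion. -/
abbrev Comp : Type u := {P : Ideal (Ah A) // P ∈ minimalPrimes (Ah A)}

instance (P : Comp A) : P.1.IsPrime := P.2.isPrime

instance : IsNoetherianRing (Ah A) := CohenStruct.isNoetherianRing_completion A

/-- The field of a component. -/
abbrev Lp (P : Comp A) : Type u := FractionRing (Ah A ⧸ P.1)

/-- The normalisation of a component. -/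
abbrev Nm (P : Comp A) : Type u := integralClosure (Ah A ⧸ P.1) (Lp A P)

instance (P : Comp A) : IsDomain (Nm A P) :=
  Function.Injective.isDomain (integralClosure (Ah A ⧸ P.1) (Lp A P)).val.toRingHom Subtype.val_injective

instance : Finite (Comp A) := (minimalPrimes.finite_of_isNoetherianRing (Ah A)).to_subtype

instance moduleFinite_nm (P : Comp A) : Module.Finite (Ah A ⧸ P.1) (Nm A P) := by
  have h := (CohenStruct.isNagata_of_complete (Ah A)).2 P.1
  exact h (Lp A P) (inferInstance : FiniteDimensional (Lp A P) (Lp A P))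

instance (P : Comp A) : IsNoetherianRing (Nm A P) := IsNoetherianRing.of_finite (Ah A ⧸ P.1) (Nm A P)

instance (P : Comp A) : IsIntegrallyClosed (Nm A P) := by
  have : IsFractionRing (Nm A P) (Lp A P) :=
    IsIntegralClosure.isFractionRing_of_finite_extension (Ah A ⧸ P.1) (Lp A P) (Lp A P) (Nm A P)
  exact (isIntegrallyClosed_iff (Lp A P)).mpr fun {x} hx => ⟨⟨x, isIntegral_trans (R := Ah A ⧸ P.1) x hx⟩, rfl⟩

/-- Incomparability for integral extensions. -/
theorem eq_of_le_of_comap_eq {A S : Type u} [CommRing A] [CommRing S] [Algebra A S] [Algebra.IsIntegral A S]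
    {P Q : Ideal S} (hP : P.IsPrime) (_hQ : Q.IsPrime) (h : P ≤ Q)
    (he : P.comap (algebraMap A S) = Q.comap (algebraMap A S)) : P = Q := by
  by_contra hne
  exact (Ideal.IsIntegral.comap_lt_comap (R := A) (lt_of_le_of_ne h hne)).ne he

theorem comap_eq_bot (P : Comp A) : P.1.comap (algebraMap A (Ah A)) = ⊥ := by
  have hg : (⊥ : Ideal A) ≤ P.1.comap (algebraMap A (Ah A)) := bot_le
  have : P.1.LiesOver (P.1.comap (algebraMap A (Ah A))) := ⟨rfl⟩
  obtain ⟨Q, hQP, hQ, hQl⟩ :=
    Ideal.exists_ideal_le_liesOver_of_le (p := (⊥ : Ideal A)) (q := P.1.comap (algebraMap A (Ah A))) P.1 hg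
  exact le_antisymm ((Ideal.comap_mono (P.2.2 ⟨hQ, bot_le⟩ hQP)).trans hQl.over.ge) bot_le

/-- `A → Lp P`. -/
noncomputable def toLp (P : Comp A) : A →+* Lp A P :=
  (algebraMap (Ah A ⧸ P.1) (Lp A P)).comp ((Ideal.Quotient.mk P.1).comp (algebraMap A (Ah A)))

theorem toLp_injective (P : Comp A) : Function.Injective (toLp A P) := by
  refine (injective_iff_map_eq_zero _).mpr fun a ha => ?_
  have h1 : Ideal.Quotient.mk P.1 (algebraMap A (Ah A) a) = 0 :=
    IsFractionRing.injective (Ah A ⧸ P.1) (Lp A P) (by rw [map_zero]; exact ha)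
  have h2' : algebraMap A (Ah A) a ∈ P.1 := Ideal.Quotient.eq_zero_iff_mem.mp h1
  have h2 : a ∈ P.1.comap (algebraMap A (Ah A)) := h2'
  rwa [comap_eq_bot A P, Ideal.mem_bot] at h2

/-- `K → Lp P`. -/
noncomputable def psi (P : Comp A) : K →+* Lp A P := IsFractionRing.lift (toLp_injective A P)

theorem psi_algebraMap (P : Comp A) (a : A) :
    psi A K P (algebraMap A K a) =
      algebraMap (Ah A ⧸ P.1) (Lp A P) (Ideal.Quotient.mk P.1 (algebraMap A (Ah A) a)) :=
  IsFractionRing.lift_algebraMap (toLp_injective A P) a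

theorem psi_isIntegral {x : K} (hx : IsIntegral A x) (P : Comp A) : IsIntegral (Ah A ⧸ P.1) (psi A K P x) := by
  obtain ⟨f, hf, hf0⟩ := hx
  refine ⟨f.map ((Ideal.Quotient.mk P.1).comp (algebraMap A (Ah A))), hf.map _, ?_⟩
  rw [eval₂_map, show (algebraMap (Ah A ⧸ P.1) (Lp A P)).comp ((Ideal.Quotient.mk P.1).comp (algebraMap A (Ah A))) =
    (psi A K P).comp (algebraMap A K) from RingHom.ext fun a => (psi_algebraMap A K P a).symm,
    ← hom_eval₂, hf0, map_zero]

/-- `A' → Nm P`. -/
noncomputable def toNm (P : Comp A) : integralClosure A K →+* Nm A P :=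
  ((psi A K P).comp (algebraMap (integralClosure A K) K)).codRestrict (integralClosure (Ah A ⧸ P.1) (Lp A P))
    fun x => psi_isIntegral A K x.2 P

theorem toNm_coe (P : Comp A) (x : integralClosure A K) : (toNm A K P x : Lp A P) = psi A K P x := rfl

theorem toNm_injective (P : Comp A) : Function.Injective (toNm A K P) := fun _ _ h =>
  Subtype.ext ((psi A K P).injective (congrArg Subtype.val h))

theorem exists_conductor : ∃ c : Ah A, (∀ P : Comp A, c ∉ P.1) ∧ ∀ z : ∀ P : Comp A, Nm A P, ∃ y : Ah A,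
    ∀ P, algebraMap (Ah A ⧸ P.1) (Lp A P) (Ideal.Quotient.mk P.1 y) =
      algebraMap (Ah A ⧸ P.1) (Lp A P) (Ideal.Quotient.mk P.1 c) * (z P : Lp A P) := by
  classical
  have := Fintype.ofFinite (Comp A)
  have hg : ∀ P : Comp A, ∃ g : Ah A, g ∉ P.1 ∧ ∀ w : Nm A P, ∃ v : Ah A,
      algebraMap (Ah A ⧸ P.1) (Lp A P) (Ideal.Quotient.mk P.1 v) =
        algebraMap (Ah A ⧸ P.1) (Lp A P) (Ideal.Quotient.mk P.1 g) * (w : Lp A P) := by
    intro P
    obtain ⟨s, hs⟩ := Module.Finite.iff_fg.mp
      (show Module.Finite (Ah A ⧸ P.1) (Subalgebra.toSubmodule (integralClosure (Ah A ⧸ P.1) (Lp A P))) from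
        moduleFinite_nm A P)
    obtain ⟨d, hd⟩ := IsLocalization.exist_integer_multiples_of_finset (nonZeroDivisors (Ah A ⧸ P.1)) s
    obtain ⟨g, hg⟩ := Ideal.Quotient.mk_surjective (d : Ah A ⧸ P.1)
    refine ⟨g, fun h => nonZeroDivisors.coe_ne_zero d (by rw [← hg]; exact Ideal.Quotient.eq_zero_iff_mem.mpr h),
      fun w => ?_⟩
    have hw : (w : Lp A P) ∈ Submodule.span (Ah A ⧸ P.1) (s : Set (Lp A P)) := by rw [hs]; exact w.2
    obtain ⟨v, hv⟩ : ∃ v : Ah A ⧸ P.1,
        algebraMap (Ah A ⧸ P.1) (Lp A P) v = algebraMap (Ah A ⧸ P.1) (Lp A P) d * (w : Lp A P) := by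
      refine Submodule.span_induction (p := fun z _ => ∃ v : Ah A ⧸ P.1,
        algebraMap (Ah A ⧸ P.1) (Lp A P) v = algebraMap (Ah A ⧸ P.1) (Lp A P) d * z) ?_ ?_ ?_ ?_ hw
      · intro z hz
        obtain ⟨v, hv⟩ := hd z hz
        exact ⟨v, by rw [hv, Algebra.smul_def]⟩
      · exact ⟨0, by rw [map_zero, mul_zero]⟩
      · rintro a b _ _ ⟨v, hv⟩ ⟨v', hv'⟩
        exact ⟨v + v', by rw [map_add, hv, hv', mul_add]⟩
      · rintro r a _ ⟨v, hv⟩
        exact ⟨r * v, by rw [map_mul, hv, Algebra.smul_def]; ring⟩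
    obtain ⟨v, rfl⟩ := Ideal.Quotient.mk_surjective v
    exact ⟨v, by rw [hv, hg]⟩
  choose g hgP hg using hg
  have hd : ∀ P : Comp A, ∃ d : Ah A, d ∉ P.1 ∧ ∀ Q : Comp A, Q ≠ P → d ∈ Q.1 := by
    intro P
    have he : ∀ Q : Comp A, ∃ e : Ah A, e ∉ P.1 ∧ (Q ≠ P → e ∈ Q.1) := by
      intro Q
      by_cases h : Q = P
      · exact ⟨1, fun h1 => P.2.isPrime.ne_top ((Ideal.eq_top_iff_one _).mpr h1), fun hne => absurd h hne⟩
      · obtain ⟨e, heQ, heP⟩ := SetLike.not_le_iff_exists.mp
          (show ¬ Q.1 ≤ P.1 from fun hle => h (Subtype.ext (le_antisymm hle (P.2.2 ⟨Q.2.isPrime, bot_le⟩ hle))))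
        exact ⟨e, heP, fun _ => heQ⟩
    choose e he1 he2 using he
    refine ⟨∏ Q, e Q, fun h => ?_, fun Q hQ => ?_⟩
    · obtain ⟨Q, -, hQ⟩ := (Ideal.IsPrime.prod_mem_iff).mp h
      exact he1 Q hQ
    · exact Ideal.prod_mem _ (Finset.mem_univ Q) (he2 Q hQ)
  choose d hdP hdQ using hd
  have hsum : ∀ (P : Comp A) (f : Comp A → Ah A),
      Ideal.Quotient.mk P.1 (∑ Q, d Q * f Q) = Ideal.Quotient.mk P.1 (d P * f P) := by
    intro P f
    rw [map_sum]
    refine Finset.sum_eq_single_of_mem P (Finset.mem_univ _) fun Q _ hQ => ?_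
    exact Ideal.Quotient.eq_zero_iff_mem.mpr (Ideal.mul_mem_right _ _ (hdQ Q P (Ne.symm hQ)))
  refine ⟨∑ Q, d Q * g Q, fun P h => ?_, fun z => ?_⟩
  · rw [← Ideal.Quotient.eq_zero_iff_mem, hsum P g, Ideal.Quotient.eq_zero_iff_mem] at h
    exact (P.2.isPrime.mem_or_mem h).elim (hdP P) (hgP P)
  · choose v hv using fun Q => hg Q (z Q)
    refine ⟨∑ Q, d Q * v Q, fun P => ?_⟩
    rw [hsum P v, hsum P g, map_mul, map_mul, map_mul, map_mul, hv P]
    ring

/-- The integral closure is cut out by the normalisations of the components. -/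
theorem isIntegral_of_forall (x : K) (h : ∀ P : Comp A, IsIntegral (Ah A ⧸ P.1) (psi A K P x)) :
    IsIntegral A x := by
  classical
  have := Fintype.ofFinite (Comp A)
  obtain ⟨a, b, hb, rfl⟩ := IsFractionRing.div_surjective (A := A) x
  let ι := algebraMap A (Ah A)
  have hg : ∀ P : Comp A, ∃ g : (Ah A)[X], g.Monic ∧ eval (ι a) (scaleRoots g (ι b)) ∈ P.1 := by
    intro P
    obtain ⟨f, hf, hf0⟩ := h P
    obtain ⟨g, hgf, -, hg⟩ := Polynomial.lifts_and_degree_eq_and_monic
      (Polynomial.map_surjective _ Ideal.Quotient.mk_surjective f) hf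
    refine ⟨g, hg, ?_⟩
    have hb0 : psi A K P (algebraMap A K b) ≠ 0 := by
      rw [_root_.map_ne_zero]
      exact IsFractionRing.to_map_ne_zero_of_mem_nonZeroDivisors hb
    let φ : Ah A →+* Lp A P := (algebraMap (Ah A ⧸ P.1) (Lp A P)).comp (Ideal.Quotient.mk P.1)
    have h0 : eval₂ φ (psi A K P (algebraMap A K a / algebraMap A K b)) g = 0 := by
      rw [← eval₂_map, hgf]
      exact hf0
    have h1 := scaleRoots_eval₂_mul (p := g) φ (psi A K P (algebraMap A K a / algebraMap A K b)) (ι b)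
    rw [h0, mul_zero, show φ (ι b) * psi A K P (algebraMap A K a / algebraMap A K b) = φ (ι a) by
      rw [map_div₀, show φ (ι b) = psi A K P (algebraMap A K b) from (psi_algebraMap A K P b).symm,
        mul_div_cancel₀ _ hb0]
      exact psi_algebraMap A K P a, eval₂_at_apply] at h1
    exact Ideal.Quotient.eq_zero_iff_mem.mp (IsFractionRing.injective (Ah A ⧸ P.1) (Lp A P)
      (by rw [map_zero]; exact h1))
  choose g hg hgP using hg
  let G := ∏ P, g P
  have hG : G.Monic := monic_prod_of_monic _ _ fun P _ => hg P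
  have hnil : IsNilpotent (eval (ι a) (scaleRoots G (ι b))) := by
    rw [← mem_nilradical, nilradical_eq_sInf]
    refine Ideal.mem_sInf.mpr fun {J} hJ => ?_
    have : J.IsPrime := hJ
    obtain ⟨Q, hQ, hQJ⟩ := Ideal.exists_minimalPrimes_le (I := (⊥ : Ideal (Ah A))) (J := J) bot_le
    refine hQJ ?_
    change eval (ι a) (scaleRoots G (ι b)) ∈ (⟨Q, hQ⟩ : Comp A).1
    have hsplit : G = g ⟨Q, hQ⟩ * ∏ P ∈ Finset.univ.erase ⟨Q, hQ⟩, g P :=
      (Finset.mul_prod_erase _ _ (Finset.mem_univ _)).symm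
    rw [hsplit, mul_scaleRoots' _ _ _ (by
      rw [(hg _).leadingCoeff, (monic_prod_of_monic _ _ fun P _ => hg P).leadingCoeff, one_mul]
      exact one_ne_zero), eval_mul]
    exact Ideal.mul_mem_right _ _ (hgP _)
  obtain ⟨k, hk⟩ := hnil
  let F := G ^ k
  have hF : F.Monic := hG.pow k
  have hroot : eval (ι a) (scaleRoots F (ι b)) = 0 := by
    have : scaleRoots F (ι b) = scaleRoots G (ι b) ^ k := by
      have : ∀ j, scaleRoots (G ^ j) (ι b) = scaleRoots G (ι b) ^ j := by
        intro j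
        induction j with
        | zero => rw [pow_zero, pow_zero, ← map_one C, scaleRoots_C]
        | succ j ih =>
          rw [pow_succ, pow_succ, mul_scaleRoots' _ _ _ (by
            rw [(hG.pow j).leadingCoeff, hG.leadingCoeff, one_mul]; exact one_ne_zero), ih]
      exact this k
    rw [this, eval_pow, hk]
  let d := F.natDegree
  let J : Ideal A := Ideal.span (Set.range fun i : Fin d => b ^ (d - (i : ℕ)) * a ^ (i : ℕ))
  have hmem : a ^ d ∈ J := by
    have : Module.FaithfullyFlat A (Ah A) := Module.FaithfullyFlat.of_flat_of_isLocalHom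
    rw [← Ideal.comap_map_eq_self_of_faithfullyFlat (B := Ah A) J, Ideal.mem_comap]
    rw [eval_eq_sum_range, natDegree_scaleRoots, Finset.sum_range_succ, coeff_scaleRoots, Nat.sub_self,
      pow_zero, mul_one, show F.coeff F.natDegree = 1 from hF, one_mul, add_eq_zero_iff_eq_neg'] at hroot
    rw [map_pow, hroot]
    refine neg_mem (Ideal.sum_mem _ fun i hi => ?_)
    rw [Finset.mem_range] at hi
    rw [coeff_scaleRoots, mul_assoc, ← map_pow, ← map_pow, ← map_mul]
    exact Ideal.mul_mem_left _ _ (Ideal.mem_map_of_mem _ (Ideal.subset_span ⟨⟨i, hi⟩, rfl⟩))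
  obtain ⟨r, hr⟩ := (Ideal.mem_span_range_iff_exists_fun).mp hmem
  refine ⟨X ^ d - ∑ i : Fin d, C (r i) * X ^ (i : ℕ), monic_X_pow_sub ?_, ?_⟩
  · exact degree_sum_fin_lt r
  · have hb0 : algebraMap A K b ≠ 0 := IsFractionRing.to_map_ne_zero_of_mem_nonZeroDivisors hb
    rw [eval₂_sub, eval₂_X_pow, eval₂_finsetSum, sub_eq_zero, div_pow, div_eq_iff (pow_ne_zero _ hb0),
      ← map_pow, ← hr, map_sum, Finset.sum_mul]
    refine Finset.sum_congr rfl fun i _ => ?_
    rw [eval₂_mul, eval₂_C, eval₂_X_pow, map_mul, map_mul, map_pow, map_pow,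
      ← pow_mul_pow_sub (algebraMap A K b) i.2.le, div_pow]
    field_simp

theorem isIntegral_of_isAlmostIntegral (x : K) (t : integralClosure A K) (ht : t ≠ 0)
    (h : ∀ n : ℕ, (t : K) * x ^ n ∈ integralClosure A K) : IsIntegral A x := by
  refine isIntegral_of_forall A K x fun P => ?_
  have halm : IsAlmostIntegral (Nm A P) (psi A K P x) := by
    refine ⟨toNm A K P t, mem_nonZeroDivisors_of_ne_zero ((map_ne_zero_iff _ (toNm_injective A K P)).mpr ht),
      fun n => ⟨toNm A K P ⟨_, h n⟩, ?_⟩⟩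
    change psi A K P ((t : K) * x ^ n) = _
    rw [map_mul, map_pow]
    rfl
  exact isIntegral_trans (R := Ah A ⧸ P.1) _ halm.isIntegral

theorem finite_maximal : {M : Ideal (integralClosure A K) | M.IsMaximal}.Finite := by
  classical
  let S : Set (Ideal (integralClosure A K)) :=
    ⋃ P : Comp A, (Ideal.comap (toNm A K P)) '' {M : Ideal (Nm A P) | M.IsMaximal}
  have hS : S.Finite := by
    refine Set.finite_iUnion fun P => Set.Finite.image _ ?_
    have : IsLocalRing (Ah A ⧸ P.1) := .of_surjective' (Ideal.Quotient.mk P.1) Ideal.Quotient.mk_surjective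
    refine (Algebra.QuasiFinite.finite_primesOver (S := Nm A P) (maximalIdeal (Ah A ⧸ P.1))).subset
      fun M hM => ?_
    have : M.IsMaximal := hM
    exact ⟨this.isPrime, ⟨(IsLocalRing.eq_maximalIdeal (Ideal.isMaximal_comap_of_isIntegral_of_isMaximal M)).symm⟩⟩
  refine hS.subset fun M hM => ?_
  have hsub : (M : Set (integralClosure A K)) ⊆ ⋃ i ∈ (hS.toFinset : Set (Ideal (integralClosure A K))), (i : Set _) := by
    intro z hz
    by_contra hzS
    simp only [Set.mem_iUnion, Set.Finite.coe_toFinset, SetLike.mem_coe, not_exists] at hzS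
    have hu : ∀ P : Comp A, IsUnit (toNm A K P z) := fun P => by
      by_contra hu
      obtain ⟨M', hM', hzM'⟩ := exists_max_ideal_of_mem_nonunits hu
      exact hzS _ (Set.mem_iUnion.mpr ⟨P, M', hM', rfl⟩) hzM'
    have hz0 : (z : K) ≠ 0 := by
      have hN : ∀ P : Comp A, Nontrivial (Nm A P) := fun P => inferInstance
      obtain ⟨P₀, hP₀, -⟩ := Ideal.exists_minimalPrimes_le (bot_le : (⊥ : Ideal (Ah A)) ≤ maximalIdeal (Ah A))
      intro h0
      have := hN ⟨P₀, hP₀⟩
      refine (hu ⟨P₀, hP₀⟩).ne_zero ?_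
      rw [show z = 0 from Subtype.ext h0, map_zero]
    have hint : IsIntegral A ((z : K)⁻¹) := isIntegral_of_forall A K _ fun P => by
      obtain ⟨v, hv⟩ := (hu P).exists_right_inv
      have : psi A K P ((z : K)⁻¹) = (v : Lp A P) := by
        rw [map_inv₀]
        exact inv_eq_of_mul_eq_one_right (congrArg Subtype.val hv)
      rw [this]
      exact v.2
    refine hM.ne_top (Ideal.eq_top_of_isUnit_mem _ hz (IsUnit.of_mul_eq_one (a := z) ⟨_, hint⟩ (Subtype.ext ?_)))
    exact mul_inv_cancel₀ hz0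
  obtain ⟨I, hI, hMI⟩ := (Ideal.subset_union_prime (f := fun i => i) ⊤ ⊤ fun i hi _ _ => by
    obtain ⟨P, M', hM', rfl⟩ := Set.mem_iUnion.mp (hS.mem_toFinset.mp hi)
    have := hM'.isPrime
    infer_instance).mp hsub
  rw [hS.mem_toFinset] at hI
  obtain ⟨P, M', hM', rfl⟩ := Set.mem_iUnion.mp hI
  have := hM'.isPrime
  rwa [hM.eq_of_le (Ideal.IsPrime.ne_top inferInstance) hMI]

omit [IsLocalRing A] in
/-- Only finitely many primes of the integral closure lie over a given prime. -/
theorem finite_primes_over (p : Ideal A) [p.IsPrime] :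
    {P : Ideal (integralClosure A K) | P.IsPrime ∧ P.comap (algebraMap A (integralClosure A K)) = p}.Finite := by
  classical
  let Ap := Localization.AtPrime p
  let _ : Algebra Ap K := (IsLocalization.lift
    (M := p.primeCompl) (S := Ap) (g := algebraMap A K) fun y => IsUnit.mk0 _
      ((map_ne_zero_iff _ (IsFractionRing.injective A K)).mpr fun h => y.2 (h ▸ p.zero_mem))).toAlgebra
  have : IsScalarTower A Ap K := IsScalarTower.of_algebraMap_eq fun a => (IsLocalization.lift_eq _ a).symm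
  have : IsFractionRing Ap K := IsFractionRing.isFractionRing_of_isDomain_of_isLocalization p.primeCompl Ap K
  let A' := integralClosure A K
  let B' := integralClosure Ap K
  let j : A' →+* B' := (algebraMap A' K).codRestrict B' fun x => IsIntegral.tower_top (A := Ap) x.2
  have hloc : ∀ y : B', ∃ (s : A) (x : A'), s ∉ p ∧ algebraMap A' K x = algebraMap A K s * (y : K) := by
    intro y
    obtain ⟨⟨s, hs⟩, hy⟩ := IsIntegral.exists_multiple_integral_of_isLocalization p.primeCompl (y : K) y.2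
    rw [Submonoid.smul_def, Algebra.smul_def] at hy
    exact ⟨s, ⟨_, hy⟩, hs, rfl⟩
  have hunit : ∀ s : A, s ∉ p → IsUnit (algebraMap Ap B' (algebraMap A Ap s)) := fun s hs =>
    (IsLocalization.map_units Ap (⟨s, hs⟩ : p.primeCompl)).map _
  have hj : ∀ s : A, j (algebraMap A A' s) = algebraMap Ap B' (algebraMap A Ap s) := fun s =>
    Subtype.ext (IsScalarTower.algebraMap_apply A Ap K s)
  refine ((finite_maximal Ap K).image (Ideal.comap j)).subset ?_
  rintro P ⟨hP, hPp⟩
  have hmem : ∀ y ∈ P.map j, ∃ (s : A) (x : A'), s ∉ p ∧ x ∈ P ∧ algebraMap A' K x = algebraMap A K s * (y : K) := by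
    intro y hy
    induction hy using Submodule.span_induction with
    | mem y hy =>
      obtain ⟨x, hx, rfl⟩ := hy
      exact ⟨1, x, fun h => (inferInstance : p.IsPrime).ne_top ((Ideal.eq_top_iff_one p).mpr h), hx,
        by rw [map_one, one_mul]; rfl⟩
    | zero => exact ⟨1, 0, fun h => (inferInstance : p.IsPrime).ne_top ((Ideal.eq_top_iff_one p).mpr h),
        P.zero_mem, by simp⟩
    | add u v _ _ hu hv =>
      obtain ⟨s, x, hs, hx, hxu⟩ := hu
      obtain ⟨t, w, ht, hw, hwv⟩ := hv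
      refine ⟨s * t, algebraMap A A' t * x + algebraMap A A' s * w,
        fun h => ((inferInstance : p.IsPrime).mem_or_mem h).elim hs ht,
        P.add_mem (P.mul_mem_left _ hx) (P.mul_mem_left _ hw), ?_⟩
      rw [map_add, map_mul, map_mul, hxu, hwv, map_mul, ← IsScalarTower.algebraMap_apply,
        ← IsScalarTower.algebraMap_apply, AddMemClass.coe_add]
      ring
    | smul r u _ hu =>
      obtain ⟨s, x, hs, hx, hxu⟩ := hu
      obtain ⟨t, w, ht, hw⟩ := hloc r
      refine ⟨t * s, w * x, fun h => ((inferInstance : p.IsPrime).mem_or_mem h).elim ht hs,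
        P.mul_mem_left _ hx, ?_⟩
      rw [map_mul, hw, hxu, map_mul, smul_eq_mul, MulMemClass.coe_mul]
      ring
  have hne : P.map j ≠ ⊤ := fun htop => by
    obtain ⟨s, x, hs, hx, he⟩ := hmem 1 (htop ▸ trivial)
    rw [OneMemClass.coe_one, mul_one, IsScalarTower.algebraMap_apply A A' K] at he
    rw [show x = algebraMap A A' s from Subtype.ext he] at hx
    exact hs (hPp ▸ hx)
  obtain ⟨Q, hQ, hQP⟩ := Ideal.exists_le_maximal _ hne
  have := hQ
  refine ⟨Q, hQ, (eq_of_le_of_comap_eq (A := A) hP (hQ.isPrime.comap j) (Ideal.map_le_iff_le_comap.mp hQP) ?_).symm⟩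
  rw [hPp, Ideal.comap_comap, show j.comp (algebraMap A A') = (algebraMap Ap B').comp (algebraMap A Ap) from
    RingHom.ext hj, ← Ideal.comap_comap]
  have : (Q.comap (algebraMap Ap B')).IsMaximal := Ideal.isMaximal_comap_of_isIntegral_of_isMaximal Q
  rw [IsLocalRing.eq_maximalIdeal this]
  exact (IsLocalization.AtPrime.under_maximalIdeal Ap p).symm

end Groth.Agent.MoriNagata
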