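import Groth.Agent.KrullAkizuki.Semilocal
import Groth.Agent.DvrDom.Basic
import Mathlib.RingTheory.Ideal.Height

/-!
# A unibranch height-one prime gives a discrete valuation ring

* `exists_dvr_of_unique`: if a single prime of the integral closure lies over the height-one prime `p` of the
  Noetherian domain `C`, the integral closure of `C_p` is a DVR.
-/

universe u

open IsLocalRing

namespace Groth.Agent.MoriNagata

theorem exists_dvr_of_unique {C : Type u} [CommRing C] [IsDomain C] [IsNoetherianRing C] {K : Type u} [Field K]
    [Algebra C K] [IsFractionRing C K] (p : Ideal C) [p.IsPrime] (hp1 : p.height = 1)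
    (huniq : ∀ P P' : Ideal (integralClosure C K), P.IsPrime → P'.IsPrime →
      P.comap (algebraMap C (integralClosure C K)) = p → P'.comap (algebraMap C (integralClosure C K)) = p → P = P') :
    ∃ V : ValuationSubring K, IsDiscreteValuationRing V ∧
      ∀ x : K, x ∈ V ↔ ∃ s : C, s ∉ p ∧ IsIntegral C (algebraMap C K s * x) := by
  let B := Localization.subalgebra.ofField K p.primeCompl (Ideal.primeCompl_le_nonZeroDivisors p)
  have : IsLocalization.AtPrime B p :=
    Localization.subalgebra.isLocalization_ofField K p.primeCompl (Ideal.primeCompl_le_nonZeroDivisors p)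
  have : IsLocalRing B := IsLocalization.AtPrime.isLocalRing B p
  have : IsNoetherianRing B := IsLocalization.isNoetherianRing p.primeCompl B inferInstance
  have : IsFractionRing B K := IsFractionRing.isFractionRing_of_isDomain_of_isLocalization p.primeCompl B K
  have : Ring.KrullDimLE 1 B := by
    rw [Ring.krullDimLE_iff, IsLocalization.AtPrime.ringKrullDim_eq_height p B, hp1]
    rfl
  have iN : IsNoetherianRing B.toSubring := ‹IsNoetherianRing B›
  have iF : IsFractionRing B.toSubring K := ‹IsFractionRing B K›
  have iK : Ring.KrullDimLE 1 B.toSubring := ‹Ring.KrullDimLE 1 B›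
  let D := integralClosure B K
  have hded : IsDedekindDomain D := KrullAkizuki.isDedekindDomain_integralClosure B.toSubring
  have hmem : ∀ x : K, x ∈ D ↔ ∃ s : C, s ∉ p ∧ IsIntegral C (algebraMap C K s * x) := by
    intro x
    constructor
    · intro hx
      obtain ⟨⟨s, hs⟩, hy⟩ := IsIntegral.exists_multiple_integral_of_isLocalization p.primeCompl x hx
      rw [Submonoid.smul_def, Algebra.smul_def] at hy
      exact ⟨s, hs, hy⟩
    · rintro ⟨s, hs, hy⟩
      obtain ⟨v, hv⟩ := (IsLocalization.map_units B (⟨s, hs⟩ : p.primeCompl)).exists_left_inv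
      have : x = algebraMap B K v * (algebraMap C K s * x) := by
        rw [← mul_assoc, IsScalarTower.algebraMap_apply C B K, ← map_mul, hv, map_one, one_mul]
      rw [this]
      exact D.mul_mem isIntegral_algebraMap (IsIntegral.tower_top (A := B) hy : IsIntegral B (algebraMap C K s * x))
  let A' := integralClosure C K
  let i : A' →+* D := (algebraMap A' K).codRestrict D fun a => IsIntegral.tower_top (A := B) a.2
  have hi : ∀ c : C, i (algebraMap C A' c) = algebraMap B D (algebraMap C B c) := fun c =>
    Subtype.ext (IsScalarTower.algebraMap_apply C B K c)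
  have hM : ∀ M : Ideal D, M.IsMaximal → (M.comap i).comap (algebraMap C A') = p := by
    intro M hM
    have : (M.comap (algebraMap B D)).IsMaximal := Ideal.isMaximal_comap_of_isIntegral_of_isMaximal M
    rw [Ideal.comap_comap, show i.comp (algebraMap C A') = (algebraMap B D).comp (algebraMap C B) from
      RingHom.ext hi, ← Ideal.comap_comap, IsLocalRing.eq_maximalIdeal this]
    exact IsLocalization.AtPrime.under_maximalIdeal B p
  have hloc : IsLocalRing D := by
    refine IsLocalRing.of_unique_max_ideal ?_
    obtain ⟨M, hM'⟩ := Ideal.exists_maximal D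
    refine ⟨M, hM', fun N hN => ?_⟩
    have he := huniq (N.comap i) (M.comap i) inferInstance inferInstance (hM N hN) (hM M hM')
    refine hN.eq_of_le hM'.ne_top fun y hy => ?_
    obtain ⟨s, hs, hsy⟩ := (hmem (y : K)).mp y.2
    let w : A' := ⟨_, hsy⟩
    have hw : i w = i (algebraMap C A' s) * y := Subtype.ext rfl
    have : w ∈ N.comap i := by rw [Ideal.mem_comap, hw]; exact N.mul_mem_left _ hy
    rw [he, Ideal.mem_comap, hw] at this
    exact (hM'.isPrime.mem_or_mem this).resolve_left fun h => hs ((hM M hM').le h)
  have hnf : ¬ IsField D := by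
    intro hf
    have h2 := hM (IsLocalRing.maximalIdeal D) inferInstance
    rw [IsLocalRing.isField_iff_maximalIdeal_eq.mp hf] at h2
    have h3 : p = ⊥ := by
      rw [← h2]
      refine le_antisymm (fun c hc => Ideal.mem_bot.mpr (IsFractionRing.injective C K ?_)) bot_le
      rw [map_zero]
      exact congrArg Subtype.val (Ideal.mem_bot.mp hc)
    rw [h3, Ideal.height_bot] at hp1
    exact zero_ne_one hp1
  have : IsPrincipalIdealRing D := IsPrincipalIdealRing.of_finite_maximals
    ((Set.finite_singleton (IsLocalRing.maximalIdeal D)).subset fun M hM => IsLocalRing.eq_maximalIdeal hM)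
  have hdvr : IsDiscreteValuationRing D :=
    { not_a_field' := fun h => hnf (IsLocalRing.isField_iff_maximalIdeal_eq.mpr h) }
  have : IsFractionRing D K := IsIntegralClosure.isFractionRing_of_finite_extension B K K D
  have : ValuationRing D := inferInstance
  exact ⟨DvrDom.ofSubalgebra D, (show IsDiscreteValuationRing D from hdvr), fun x => hmem x⟩

end Groth.Agent.MoriNagata
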