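import Groth.Agent.MoriNagata.Basic
import Mathlib.RingTheory.Ideal.KrullsHeightTheorem

/-!
# Height-one primes of the integral closure of a Noetherian local domain

* `mem_of_forall_height_one`: `A'` is the intersection of its localisations at height-one primes.
* `exists_bad_finite`: outside finitely many primes of `A`, height-one primes of `A'` lie over primes of
  height ≤ 1, and only one prime of `A'` lies over such a prime.
-/

universe u

open IsLocalRing

namespace Groth.Agent.MoriNagata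

variable (A : Type u) [CommRing A] [IsDomain A] [IsNoetherianRing A] [IsLocalRing A]
variable (K : Type u) [Field K] [Algebra A K] [IsFractionRing A K]

/-- `Ah → Nm P`. -/
noncomputable def chi (P : Comp A) : Ah A →+* Nm A P :=
  (algebraMap (Ah A ⧸ P.1) (Nm A P)).comp (Ideal.Quotient.mk P.1)

theorem toNm_algebraMap (P : Comp A) (a : A) :
    toNm A K P (algebraMap A (integralClosure A K) a) = chi A P (algebraMap A (Ah A) a) :=
  Subtype.ext (psi_algebraMap A K P a)

omit [IsDomain A] [IsNoetherianRing A] in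
theorem chi_eq_zero_iff (P : Comp A) (y : Ah A) : chi A P y = 0 ↔ y ∈ P.1 := by
  rw [← Ideal.Quotient.eq_zero_iff_mem]
  refine ⟨fun h => IsFractionRing.injective (Ah A ⧸ P.1) (Lp A P) ?_, fun h => ?_⟩
  · rw [map_zero]; exact congrArg Subtype.val h
  · change algebraMap (Ah A ⧸ P.1) (Nm A P) (Ideal.Quotient.mk P.1 y) = 0
    rw [h, map_zero]

theorem exists_center (P : Ideal (integralClosure A K)) [P.IsPrime] (hP : P.height = 1) :
    ∃ (C : Comp A) (Q : Ideal (Nm A C)), Q.IsPrime ∧ Q ≠ ⊥ ∧ Q.height ≤ 1 ∧ Q.comap (toNm A K C) = P := by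
  classical
  obtain ⟨t, htP, ht0⟩ : ∃ t ∈ P, t ≠ 0 := Submodule.exists_mem_ne_zero_of_ne_bot fun e => by
    rw [e, Ideal.height_bot] at hP
    exact zero_ne_one hP
  have := Fintype.ofFinite (Comp A)
  let S : Finset (Ideal (integralClosure A K)) := Finset.univ.biUnion fun C : Comp A =>
    ((Ideal.span {toNm A K C t}).finite_minimalPrimes_of_isNoetherianRing (Nm A C)).toFinset.image
      (Ideal.comap (toNm A K C))
  by_contra hne
  push Not at hne
  have hz : ∀ I ∈ S, ∃ z ∈ I, z ∉ P := by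
    intro I hI
    obtain ⟨C, -, Q, hQ, rfl⟩ : ∃ C : Comp A, C ∈ (Finset.univ : Finset (Comp A)) ∧
        ∃ Q ∈ (Ideal.span {toNm A K C t}).minimalPrimes, Q.comap (toNm A K C) = I := by
      obtain ⟨C, h1, h2⟩ := Finset.mem_biUnion.mp hI
      obtain ⟨Q, h3, h4⟩ := Finset.mem_image.mp h2
      exact ⟨C, h1, Q, Set.Finite.mem_toFinset _ |>.mp h3, h4⟩
    have := hQ.isPrime
    have htQ : toNm A K C t ∈ Q := hQ.le (Ideal.mem_span_singleton_self _)
    have hQ0 : Q ≠ ⊥ := fun e => ht0 (toNm_injective A K C (by rw [map_zero]; rwa [e, Ideal.mem_bot] at htQ))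
    have hQ1 : Q.height ≤ 1 := Ideal.height_le_one_of_isPrincipal_of_mem_minimalPrimes _ Q hQ
    refine SetLike.not_le_iff_exists.mp fun hle => hne C Q inferInstance hQ0 hQ1 ?_
    by_contra hneq
    have h0 := Ideal.height_le_iff.mp hP.le _ inferInstance (lt_of_le_of_ne hle hneq)
    rw [Nat.cast_one, Order.lt_one_iff, Ideal.height_eq_zero_iff_eq_bot] at h0
    have htc : t ∈ Q.comap (toNm A K C) := htQ
    rw [h0, Ideal.mem_bot] at htc
    exact ht0 htc
  choose z hzI hzP using hz
  let s := ∏ I ∈ S.attach, z I.1 I.2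
  have hsP : s ∉ P := fun h => by
    obtain ⟨I, -, hI⟩ := (Ideal.IsPrime.prod_mem_iff).mp h
    exact hzP I.1 I.2 hI
  have hs : ∀ C : Comp A, toNm A K C s ∈ (Ideal.span {toNm A K C t}).radical := fun C => by
    rw [← Ideal.sInf_minimalPrimes]
    refine Ideal.mem_sInf.mpr fun {Q} hQ => ?_
    have hI : Q.comap (toNm A K C) ∈ S := Finset.mem_biUnion.mpr ⟨C, Finset.mem_univ C,
      Finset.mem_image.mpr ⟨Q, (Set.Finite.mem_toFinset _).mpr hQ, rfl⟩⟩
    exact Ideal.prod_mem (Q.comap (toNm A K C)) (Finset.mem_attach _ ⟨_, hI⟩) (hzI _ hI)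
  choose m hm using hs
  obtain ⟨M, hM⟩ : ∃ M, ∀ C, m C ≤ M := ⟨Finset.univ.sup m, fun C => Finset.le_sup (Finset.mem_univ C)⟩
  have ht0' : (t : K) ≠ 0 := fun h => ht0 (Subtype.ext h)
  have hint : IsIntegral A ((s : K) ^ M / (t : K)) := isIntegral_of_forall A K _ fun C => by
    obtain ⟨w, hw⟩ := Ideal.mem_span_singleton'.mp (Ideal.pow_mem_of_pow_mem _ (hm C) (hM C))
    have h : psi A K C ((s : K) ^ M / (t : K)) = (w : Lp A C) := by
      rw [map_div₀, div_eq_iff ((_root_.map_ne_zero _).mpr ht0'), map_pow]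
      exact (congrArg Subtype.val hw).symm
    rw [h]
    exact w.2
  refine hsP ((inferInstance : P.IsPrime).mem_of_pow_mem M ?_)
  have : s ^ M = ⟨_, hint⟩ * t := Subtype.ext (by
    rw [SubmonoidClass.coe_pow, MulMemClass.coe_mul, div_mul_cancel₀ _ ht0'])
  rw [this]
  exact P.mul_mem_left _ htP

theorem mem_of_forall_height_one (x : K)
    (hx : ∀ (P : Ideal (integralClosure A K)) [P.IsPrime], P.height = 1 →
      ∃ s : integralClosure A K, s ∉ P ∧ (s : K) * x ∈ integralClosure A K) :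
    IsIntegral A x := by
  classical
  have := Fintype.ofFinite (Comp A)
  obtain ⟨a, b, hb, hab⟩ := IsFractionRing.div_surjective (A := A) x
  have hb0 : algebraMap A K b ≠ 0 := IsFractionRing.to_map_ne_zero_of_mem_nonZeroDivisors hb
  let D : ∀ C : Comp A, Ideal (Nm A C) := fun C =>
    { carrier := {t : Nm A C | IsIntegral (Ah A ⧸ C.1) ((t : Lp A C) * psi A K C x)}
      add_mem' := fun {u v} hu hv => by
        simp only [Set.mem_ofPred_eq, AddMemClass.coe_add, add_mul] at *
        exact hu.add hv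
      zero_mem' := by
        simp only [Set.mem_ofPred_eq, ZeroMemClass.coe_zero, zero_mul]
        exact isIntegral_zero
      smul_mem' := fun r u hu => by
        simp only [Set.mem_ofPred_eq, smul_eq_mul, MulMemClass.coe_mul, mul_assoc] at *
        exact r.2.mul hu }
  let T : Finset (Ideal (integralClosure A K)) := Finset.univ.biUnion fun C : Comp A =>
    ((D C).finite_minimalPrimes_of_isNoetherianRing (Nm A C)).toFinset.image (Ideal.comap (toNm A K C))
  have hT : ∀ P ∈ T, P.IsPrime ∧ P ≠ ⊥ ∧ P.height ≠ 1 := by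
    intro P hP
    obtain ⟨C, -, h2⟩ := Finset.mem_biUnion.mp hP
    obtain ⟨Q, h3, rfl⟩ := Finset.mem_image.mp h2
    have hQ := (Set.Finite.mem_toFinset _).mp h3
    have := hQ.isPrime
    refine ⟨inferInstance, fun e => ?_, fun h1 => ?_⟩
    · have hbD : toNm A K C (algebraMap A (integralClosure A K) b) ∈ D C := by
        change IsIntegral _ (psi A K C (algebraMap A K b) * psi A K C x)
        rw [← map_mul, ← hab, mul_div_cancel₀ _ hb0]
        exact psi_isIntegral A K isIntegral_algebraMap C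
      have hbc : algebraMap A (integralClosure A K) b ∈ Q.comap (toNm A K C) := hQ.le hbD
      rw [e, Ideal.mem_bot] at hbc
      exact hb0 (congrArg Subtype.val hbc)
    · obtain ⟨s, hs, hsx⟩ := hx _ h1
      refine hs (hQ.le ?_)
      change IsIntegral _ (psi A K C (s : K) * psi A K C x)
      rw [← map_mul]
      exact psi_isIntegral A K hsx C
  -- removing one prime
  have key : ∀ P ∈ T, ∀ y : K, (∀ p ∈ P, ((p : integralClosure A K) : K) * y ∈ integralClosure A K) →
      IsIntegral A y := by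
    intro P hP y hy
    obtain ⟨hPp, hP0, hP1⟩ := hT P hP
    obtain ⟨t₀, ht₀P, ht₀⟩ := Submodule.exists_mem_ne_zero_of_ne_bot hP0
    by_cases hcase : ∀ p : integralClosure A K, p ∈ P →
        ∃ e ∈ P, (e : K) = ((p : integralClosure A K) : K) * y
    · refine isIntegral_of_isAlmostIntegral A K y t₀ ht₀ fun n => ?_
      suffices ∃ e ∈ P, (e : K) = (t₀ : K) * y ^ n by obtain ⟨e, -, he⟩ := this; exact he ▸ e.2
      induction n with
      | zero => exact ⟨t₀, ht₀P, by rw [pow_zero, mul_one]⟩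
      | succ n ih =>
        obtain ⟨e, he, hee⟩ := ih
        obtain ⟨e', he', hee'⟩ := hcase e he
        exact ⟨e', he', by rw [hee', hee, pow_succ]; ring⟩
    push Not at hcase
    obtain ⟨p₀, hp₀, hv⟩ := hcase
    let v : integralClosure A K := ⟨_, hy p₀ hp₀⟩
    have hvP : v ∉ P := fun h => hv v h rfl
    obtain ⟨q, hq, hq0, hqP⟩ : ∃ q : Ideal (integralClosure A K), q.IsPrime ∧ q ≠ ⊥ ∧ q < P := by
      by_contra hne
      push Not at hne
      refine hP1 (le_antisymm ((Ideal.height_le_iff (p := P) (n := 1)).mpr fun q hq hqP => ?_) ?_)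
      · rw [Decidable.byContradiction (fun h => hne q hq h hqP), Ideal.height_bot]
        exact zero_lt_one
      · exact Order.one_le_iff_pos.mpr (pos_iff_ne_zero.mpr fun e => hP0 (Ideal.height_eq_zero_iff_eq_bot.mp e))
    by_cases hpq : p₀ ∈ q
    · refine absurd hqP fun hlt => hlt.not_ge fun p hp => ?_
      let e : integralClosure A K := ⟨_, hy p hp⟩
      have : p * v = p₀ * e := Subtype.ext (by simp [v, e, mul_left_comm])
      exact (hq.mem_or_mem (this ▸ q.mul_mem_right e hpq)).resolve_right fun h => hvP (hqP.le h)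
    obtain ⟨t, htq, ht0⟩ := Submodule.exists_mem_ne_zero_of_ne_bot hq0
    refine isIntegral_of_isAlmostIntegral A K y t ht0 fun n => ?_
    suffices ∃ e ∈ q, (e : K) = (t : K) * y ^ n by obtain ⟨e, -, he⟩ := this; exact he ▸ e.2
    induction n with
    | zero => exact ⟨t, htq, by rw [pow_zero, mul_one]⟩
    | succ n ih =>
      obtain ⟨e, he, hee⟩ := ih
      let e' : integralClosure A K := ⟨_, hy e (hqP.le he)⟩
      have : p₀ * e' = e * v := Subtype.ext (by simp [v, e', mul_left_comm])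
      refine ⟨e', (hq.mem_or_mem (this.symm ▸ q.mul_mem_right v he)).resolve_left hpq, ?_⟩
      change (e : K) * y = _
      rw [hee, pow_succ]
      ring
  let J := ∏ P ∈ T, P
  have hJ : ∀ C : Comp A, J.map (toNm A K C) ≤ (D C).radical := fun C => by
    rw [← Ideal.sInf_minimalPrimes]
    refine le_sInf fun Q hQ => Ideal.map_le_iff_le_comap.mpr ?_
    have hI : Q.comap (toNm A K C) ∈ T := Finset.mem_biUnion.mpr ⟨C, Finset.mem_univ C,
      Finset.mem_image.mpr ⟨Q, (Set.Finite.mem_toFinset _).mpr hQ, rfl⟩⟩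
    exact Ideal.le_of_dvd (Finset.dvd_prod_of_mem (fun P : Ideal (integralClosure A K) => P) hI)
  choose m hm using fun C => Ideal.exists_pow_le_of_le_radical_of_fg (hJ C) (IsNoetherian.noetherian _)
  obtain ⟨M, hM⟩ : ∃ M, ∀ C, m C ≤ M := ⟨Finset.univ.sup m, fun C => Finset.le_sup (Finset.mem_univ C)⟩
  have hJx : ∀ z ∈ J ^ M, ((z : integralClosure A K) : K) * x ∈ integralClosure A K := fun z hz =>
    isIntegral_of_forall A K _ fun C => by
      have h1 : toNm A K C z ∈ D C := hm C (Ideal.pow_le_pow_right (hM C) (Ideal.map_pow (toNm A K C) J M ▸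
        Ideal.mem_map_of_mem _ hz))
      rw [map_mul]
      exact h1
  have ind : ∀ L : List (Ideal (integralClosure A K)), (∀ P ∈ L, P ∈ T) → ∀ y : K,
      (∀ z ∈ L.prod, ((z : integralClosure A K) : K) * y ∈ integralClosure A K) → IsIntegral A y := by
    intro L
    induction L with
    | nil =>
      intro _ y hy
      have := hy 1 (by rw [List.prod_nil, Ideal.one_eq_top]; trivial)
      rwa [OneMemClass.coe_one, one_mul] at this
    | cons P L ih =>
      intro hL y hy
      refine ih (fun Q hQ => hL Q (List.mem_cons_of_mem _ hQ)) y fun z hz => key P (hL P List.mem_cons_self) _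
        fun p hp => ?_
      have := hy (p * z) (by rw [List.prod_cons]; exact Ideal.mul_mem_mul hp hz)
      rwa [MulMemClass.coe_mul, mul_assoc] at this
  have hlist : J ^ M = (List.replicate M T.toList).flatten.prod := by
    rw [List.prod_flatten, List.map_replicate, List.prod_replicate]
    exact congrArg (· ^ M) (by simp [J])
  refine ind ((List.replicate M T.toList).flatten) (fun P hP => ?_) x (hlist ▸ hJx)
  obtain ⟨l, hl, hPl⟩ := List.mem_flatten.mp hP
  rw [List.eq_of_mem_replicate hl] at hPl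
  exact Finset.mem_toList.mp hPl

omit [IsDomain A] [IsLocalRing A] in
/-- Colon ideals commute with flat extensions. -/
theorem exists_notMem_mul_mem {B : Type u} [CommRing B] [Algebra A B] [Module.Flat A B] (J : Ideal A) (w : A)
    (p : Ideal A) (q : Ideal B) (hq : p.map (algebraMap A B) ≤ q) (t : B) (ht : t ∉ q)
    (h : t * algebraMap A B w ∈ J.map (algebraMap A B)) : ∃ r, r ∉ p ∧ r * w ∈ J := by
  obtain ⟨n, g, hg⟩ := Submodule.fg_iff_exists_fin_generating_family.mp (IsNoetherian.noetherian J)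
  have hg' : J.map (algebraMap A B) = Ideal.span (Set.range fun i => algebraMap A B (g i)) := by
    rw [show J = Ideal.span (Set.range g) from hg.symm, Ideal.map_span, ← Set.range_comp]
    rfl
  rw [hg', Ideal.mem_span_range_iff_exists_fun] at h
  obtain ⟨e, he⟩ := h
  have hrel : ∑ i : Fin (n + 1), (Fin.cons w g : Fin (n + 1) → A) i •
      (Fin.cons t (fun i => -e i) : Fin (n + 1) → B) i = 0 := by
    rw [Fin.sum_univ_succ]
    simp only [Fin.cons_zero, Fin.cons_succ, Algebra.smul_def, mul_neg, Finset.sum_neg_distrib]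
    rw [add_neg_eq_zero, mul_comm, ← he]
    exact Finset.sum_congr rfl fun i _ => mul_comm _ _
  obtain ⟨k, c, y, hy, hc⟩ := Module.Flat.isTrivialRelation_of_sum_smul_eq_zero (R := A) (M := B) hrel
  by_contra hne
  push Not at hne
  refine ht ?_
  have h0 : t = ∑ j, c 0 j • y j := by simpa using hy 0
  rw [h0]
  refine q.sum_mem fun j _ => ?_
  rw [Algebra.smul_def]
  refine q.mul_mem_right _ (hq (Ideal.mem_map_of_mem _ ?_))
  by_contra hp
  refine hne _ hp ?_
  have := hc j
  rw [Fin.sum_univ_succ, Fin.cons_zero, add_eq_zero_iff_eq_neg] at this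
  rw [mul_comm, this]
  refine neg_mem (Ideal.sum_mem _ fun i _ => ?_)
  rw [Fin.cons_succ]
  exact J.mul_mem_right _ (by rw [show J = Ideal.span (Set.range g) from hg.symm]; exact Ideal.subset_span ⟨i, rfl⟩)

set_option synthInstance.maxHeartbeats 200000 in
set_option maxHeartbeats 800000 in
/-- Outside a finite set of primes of `A`, the height-one primes of `A'` are well behaved. -/
theorem exists_bad_finite : ∃ Bad : Set (Ideal A), Bad.Finite ∧ (∀ p ∈ Bad, p.IsPrime) ∧
    (∀ (P : Ideal (integralClosure A K)) [P.IsPrime], P.height = 1 →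
      P.comap (algebraMap A (integralClosure A K)) ∉ Bad →
      (P.comap (algebraMap A (integralClosure A K))).height ≤ 1) ∧
    ∀ p : Ideal A, p.IsPrime → p.height = 1 → p ∉ Bad →
      ∀ P P' : Ideal (integralClosure A K), P.IsPrime → P'.IsPrime →
        P.comap (algebraMap A (integralClosure A K)) = p →
        P'.comap (algebraMap A (integralClosure A K)) = p → P = P' := by
  classical
  obtain ⟨c, hc, hcond⟩ := exists_conductor A
  let ι := algebraMap A (Ah A)
  let A' := integralClosure A K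
  let Bad : Set (Ideal A) := ⋃ C : Comp A,
    (fun Q => Ideal.comap ((chi A C).comp ι) Q) '' (Ideal.span {chi A C c}).minimalPrimes
  -- conductor at one component
  have hcond1 : ∀ (C : Comp A) (z : Nm A C), ∃ y : Ah A, chi A C y = chi A C c * z ∧
      ∀ C' : Comp A, C' ≠ C → y ∈ C'.1 := by
    intro C z
    obtain ⟨y, hy⟩ := hcond (Pi.single C z)
    refine ⟨y, Subtype.ext ?_, fun C' hC' => ?_⟩
    · have := hy C
      rw [Pi.single_eq_same] at this
      exact this
    · have := hy C'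
      rw [Pi.single_eq_of_ne hC', ZeroMemClass.coe_zero, mul_zero] at this
      exact Ideal.Quotient.eq_zero_iff_mem.mp (IsFractionRing.injective (Ah A ⧸ C'.1) (Lp A C')
        (by rw [map_zero]; exact this))
  have hcomap : ∀ (C : Comp A) (Q : Ideal (Nm A C)),
      (Q.comap (toNm A K C)).comap (algebraMap A A') = Q.comap ((chi A C).comp ι) := fun C Q => by
    rw [Ideal.comap_comap]
    exact congrArg (fun f => Ideal.comap f Q) (RingHom.ext fun a => toNm_algebraMap A K C a)
  have hker : ∀ (C : Comp A) (Q : Ideal (Nm A C)), C.1 ≤ Q.comap (chi A C) := fun C Q y hy => by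
    rw [Ideal.mem_comap, (chi_eq_zero_iff A C y).mpr hy]
    exact Q.zero_mem
  refine ⟨Bad, Set.finite_iUnion fun C =>
    ((Ideal.span {chi A C c}).finite_minimalPrimes_of_isNoetherianRing (Nm A C)).image _, fun p hp => ?_,
    fun P _ hP hPB => ?_, fun p hp hp1 hpB => ?_⟩
  · obtain ⟨C, Q, hQ, rfl⟩ := Set.mem_iUnion.mp hp
    have := hQ.isPrime
    exact Ideal.comap_isPrime _ _
  · obtain ⟨C, Q, hQ, hQ0, hQ1, rfl⟩ := exists_center A K P hP
    rw [hcomap] at hPB ⊢
    have hcQ : chi A C c ∉ Q := fun hcQ => hPB <| Set.mem_iUnion.mpr ⟨C, Q,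
      ⟨⟨hQ, (Ideal.span_singleton_le_iff_mem Q).mpr hcQ⟩, fun Q' ⟨hQ', hle⟩ hQQ => by
        by_contra hne
        have h0 := Ideal.height_le_iff.mp hQ1 Q' hQ' (lt_of_le_of_ne hQQ fun e => hne e.ge)
        rw [Nat.cast_one, Order.lt_one_iff, Ideal.height_eq_zero_iff_eq_bot] at h0
        have := hle (Ideal.mem_span_singleton_self _)
        rw [h0, Ideal.mem_bot, chi_eq_zero_iff] at this
        exact hc C this⟩, rfl⟩
    let 𝔮 := Q.comap (chi A C)
    have h𝔮 : 𝔮.height ≤ 1 := by
      refine (Ideal.height_le_iff (p := 𝔮) (n := 1)).mpr fun q' hq' hlt => ?_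
      have hCq : C.1 ≤ q' := by
        obtain ⟨P₁, hP₁, hP₁q⟩ := Ideal.exists_minimalPrimes_le (bot_le : (⊥ : Ideal (Ah A)) ≤ q')
        by_cases he : (⟨P₁, hP₁⟩ : Comp A) = C
        · exact he ▸ hP₁q
        obtain ⟨y, hy1, hy2⟩ := hcond1 C 1
        refine absurd ?_ hcQ
        have hy : y ∈ 𝔮 := hlt.le (hP₁q (hy2 ⟨P₁, hP₁⟩ he))
        rw [Ideal.mem_comap, hy1, mul_one] at hy
        exact hy
      have hker' : RingHom.ker (Ideal.Quotient.mk C.1) ≤ q' := (Ideal.mk_ker).trans_le hCq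
      have := Ideal.map_isPrime_of_surjective (f := Ideal.Quotient.mk C.1) Ideal.Quotient.mk_surjective hker'
      obtain ⟨Q', hQ', hQ'q⟩ := Ideal.exists_ideal_over_prime_of_isIntegral_of_isDomain (R := Ah A ⧸ C.1) (S := Nm A C)
        (q'.map (Ideal.Quotient.mk C.1)) (fun z hz => by
          rw [show z = 0 from IsFractionRing.injective (Ah A ⧸ C.1) (Lp A C)
            (by rw [map_zero]; exact congrArg Subtype.val hz)]
          exact zero_mem _)
      have hQ'c : Q'.comap (chi A C) = q' := by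
        rw [chi, ← Ideal.comap_comap, hQ'q, Ideal.comap_map_of_surjective _ Ideal.Quotient.mk_surjective]
        exact sup_eq_left.mpr hker'
      have hle : Q' ≤ Q := fun z hz => by
        obtain ⟨y, hy1, -⟩ := hcond1 C z
        have hyq : y ∈ Q'.comap (chi A C) := by
          rw [Ideal.mem_comap, hy1]; exact Q'.mul_mem_left _ hz
        rw [hQ'c] at hyq
        have := hlt.le hyq
        rw [Ideal.mem_comap, hy1] at this
        exact (hQ.mem_or_mem this).resolve_left hcQ
      have h0 := Ideal.height_le_iff.mp hQ1 Q' hQ' (lt_of_le_of_ne hle fun e => hlt.ne (by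
        rw [← hQ'c, e]))
      rw [Nat.cast_one, Order.lt_one_iff, Ideal.height_eq_zero_iff_eq_bot] at h0
      have hq'C : q' = C.1 := by
        rw [← hQ'c, h0]
        ext y
        rw [Ideal.mem_comap, Ideal.mem_bot, chi_eq_zero_iff]
      rw [Nat.cast_one, Order.lt_one_iff, Ideal.height_eq_zero_iff, hq'C]
      exact C.2
    have : 𝔮.LiesOver (Q.comap ((chi A C).comp ι)) := ⟨(Ideal.comap_comap _ _).symm⟩
    refine le_trans ?_ h𝔮
    rw [Ideal.height_eq_height_add_of_liesOver_of_hasGoingDown (Q.comap ((chi A C).comp ι)) 𝔮]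
    exact le_self_add
  · have : Module.FaithfullyFlat A (Ah A) := Module.FaithfullyFlat.of_flat_of_isLocalHom
    obtain ⟨𝔮₀, h𝔮₀⟩ := PrimeSpectrum.comap_surjective_of_faithfullyFlat (B := Ah A) ⟨p, hp⟩
    have h𝔮₀' : 𝔮₀.asIdeal.comap ι = p := congrArg PrimeSpectrum.asIdeal h𝔮₀
    obtain ⟨𝔮, h𝔮, h𝔮le⟩ := Ideal.exists_minimalPrimes_le (I := p.map ι) (J := 𝔮₀.asIdeal)
      (Ideal.map_le_iff_le_comap.mpr h𝔮₀'.ge)
    have := h𝔮.isPrime
    have : 𝔮.LiesOver p := DepthLib.liesOver_of_mem_minimalPrimes_map h𝔮 h𝔮le h𝔮₀'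
    have h𝔮p : 𝔮.comap ι = p := (Ideal.LiesOver.over (p := p) (P := 𝔮)).symm
    have h𝔮1 : 𝔮.height = 1 := (DepthLib.height_eq_of_mem_minimalPrimes_map p 𝔮 h𝔮).trans hp1
    obtain ⟨P₀, hP₀, hP₀𝔮⟩ := Ideal.exists_minimalPrimes_le (bot_le : (⊥ : Ideal (Ah A)) ≤ 𝔮)
    obtain ⟨C, hC𝔮⟩ : ∃ C : Comp A, C.1 ≤ 𝔮 := ⟨⟨P₀, hP₀⟩, hP₀𝔮⟩
    have hker' : RingHom.ker (Ideal.Quotient.mk C.1) ≤ 𝔮 := (Ideal.mk_ker).trans_le hC𝔮
    have := Ideal.map_isPrime_of_surjective (f := Ideal.Quotient.mk C.1) Ideal.Quotient.mk_surjective hker'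
    obtain ⟨Q, hQ, hQq⟩ := Ideal.exists_ideal_over_prime_of_isIntegral_of_isDomain (R := Ah A ⧸ C.1) (S := Nm A C)
      (𝔮.map (Ideal.Quotient.mk C.1)) (fun z hz => by
        rw [show z = 0 from IsFractionRing.injective (Ah A ⧸ C.1) (Lp A C)
          (by rw [map_zero]; exact congrArg Subtype.val hz)]
        exact zero_mem _)
    have hQc : Q.comap (chi A C) = 𝔮 := by
      rw [chi, ← Ideal.comap_comap, hQq, Ideal.comap_map_of_surjective _ Ideal.Quotient.mk_surjective]
      exact sup_eq_left.mpr hker'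
    have hc𝔮 : c ∉ 𝔮 := fun hcq => hpB <| Set.mem_iUnion.mpr ⟨C, Q,
      ⟨⟨hQ, (Ideal.span_singleton_le_iff_mem Q).mpr (show c ∈ Q.comap (chi A C) from hQc.symm ▸ hcq)⟩,
        fun Q' ⟨hQ', hle⟩ hQQ => by
        have hle' : Q'.comap (chi A C) ≤ 𝔮 := hQc ▸ Ideal.comap_mono hQQ
        have hc' : c ∈ Q'.comap (chi A C) := hle (Ideal.mem_span_singleton_self _)
        have heq : Q'.comap (chi A C) = 𝔮 := by
          by_contra hne
          have h0 := Ideal.height_le_iff.mp h𝔮1.le _ inferInstance (lt_of_le_of_ne hle' hne)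
          rw [Nat.cast_one, Order.lt_one_iff, Ideal.height_eq_zero_iff] at h0
          exact hc C (h0.2 ⟨C.2.isPrime, bot_le⟩ (hker C Q') hc')
        refine (eq_of_le_of_comap_eq (A := Ah A ⧸ C.1) hQ' hQ hQQ ?_).ge
        refine Ideal.comap_injective_of_surjective (Ideal.Quotient.mk C.1) Ideal.Quotient.mk_surjective ?_
        rw [Ideal.comap_comap, Ideal.comap_comap]
        exact heq.trans hQc.symm⟩, by
      change Q.comap ((chi A C).comp ι) = p
      rw [← Ideal.comap_comap, hQc, h𝔮p]⟩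
    suffices hZ : ∀ P : Ideal A', P.IsPrime → P.comap (algebraMap A A') = p →
        Q.comap (toNm A K C) = P from fun P P' h h' e e' => (hZ P h e).symm.trans (hZ P' h' e')
    intro P hP hPp
    have hZp : (Q.comap (toNm A K C)).comap (algebraMap A A') = p := by
      rw [hcomap, ← Ideal.comap_comap, hQc, h𝔮p]
    refine eq_of_le_of_comap_eq (A := A) inferInstance hP (fun x hx => ?_) (hZp.trans hPp.symm)
    obtain ⟨a, b, hb, hab⟩ := IsFractionRing.div_surjective (A := A) (x : K)
    have hb0 : algebraMap A K b ≠ 0 := IsFractionRing.to_map_ne_zero_of_mem_nonZeroDivisors hb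
    obtain ⟨y, hy⟩ := hcond fun C' => toNm A K C' x
    have hyQ : y ∈ 𝔮 := by
      rw [← hQc, Ideal.mem_comap, show chi A C y = chi A C c * toNm A K C x from Subtype.ext (hy C)]
      exact Q.mul_mem_left _ hx
    -- `s y` lies in the radical of `p Ah`
    have hfin := (p.map ι).finite_minimalPrimes_of_isNoetherianRing (Ah A)
    have hs' : ∀ I ∈ hfin.toFinset.erase 𝔮, ∃ z ∈ I, z ∉ 𝔮 := by
      intro I hI
      obtain ⟨hne, hI⟩ := Finset.mem_erase.mp hI
      rw [Set.Finite.mem_toFinset] at hI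
      exact SetLike.not_le_iff_exists.mp fun hle => hne (le_antisymm hle (h𝔮.2 ⟨hI.isPrime, hI.le⟩ hle))
    choose z hzI hz𝔮 using hs'
    let s := ∏ I ∈ (hfin.toFinset.erase 𝔮).attach, z I.1 I.2
    have hs𝔮 : s ∉ 𝔮 := fun h => by
      obtain ⟨I, -, hI⟩ := (Ideal.IsPrime.prod_mem_iff).mp h
      exact hz𝔮 I.1 I.2 hI
    obtain ⟨n₀, hn₀⟩ : s * y ∈ (p.map ι).radical := by
      rw [← Ideal.sInf_minimalPrimes]
      refine Ideal.mem_sInf.mpr fun {I} hI => ?_
      by_cases he : I = 𝔮
      · exact he ▸ Ideal.mul_mem_left _ s hyQ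
      · have hI' : I ∈ hfin.toFinset.erase 𝔮 := Finset.mem_erase.mpr ⟨he, (Set.Finite.mem_toFinset _).mpr hI⟩
        exact Ideal.mul_mem_right _ _ (Ideal.prod_mem I (Finset.mem_attach _ ⟨I, hI'⟩) (hzI I hI'))
    let n := n₀ + 1
    have hπ : (s * y) ^ n ∈ p.map ι := Ideal.pow_mem_of_pow_mem _ hn₀ (Nat.le_succ _)
    have hν : IsNilpotent (c * ι a - y * ι b) := by
      rw [← mem_nilradical, nilradical_eq_sInf]
      refine Ideal.mem_sInf.mpr fun {I} hI => ?_
      have : I.IsPrime := hI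
      obtain ⟨P₁, hP₁, hP₁I⟩ := Ideal.exists_minimalPrimes_le (bot_le : (⊥ : Ideal (Ah A)) ≤ I)
      refine hP₁I ((chi_eq_zero_iff A ⟨P₁, hP₁⟩ _).mp (Subtype.ext ?_))
      have e : psi A K ⟨P₁, hP₁⟩ (algebraMap A K a) = psi A K ⟨P₁, hP₁⟩ (algebraMap A K b) * psi A K ⟨P₁, hP₁⟩ x := by
        rw [← map_mul, ← hab, mul_div_cancel₀ _ hb0]
      rw [psi_algebraMap, psi_algebraMap] at e
      have hyP := hy ⟨P₁, hP₁⟩
      rw [toNm_coe] at hyP
      change algebraMap (Ah A ⧸ P₁) (Lp A ⟨P₁, hP₁⟩) (Ideal.Quotient.mk P₁ (c * ι a - y * ι b)) = 0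
      rw [map_sub, map_sub, map_mul, map_mul, map_mul, map_mul, e, hyP]
      ring
    let A₀ := a ^ n
    let B₀ := b ^ n
    let u := (s * c) ^ n
    let e := u * ι A₀ - (s * y) ^ n * ι B₀
    obtain ⟨k₀, hk₀⟩ : IsNilpotent e := by
      obtain ⟨d, hd⟩ := sub_dvd_pow_sub_pow (s * c * ι a) (s * y * ι b) n
      have he : e = s * (c * ι a - y * ι b) * d := by
        rw [show e = (s * c * ι a) ^ n - (s * y * ι b) ^ n by simp only [e, u, A₀, B₀, map_pow, mul_pow], hd]
        ring
      rw [he]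
      exact (Commute.all _ _).isNilpotent_mul_right ((Commute.all _ _).isNilpotent_mul_left hν)
    let k := k₀ + 1
    let L : Ideal A := Ideal.span {A₀, B₀}
    let J : Ideal A := p * (Ideal.span {B₀} * L ^ k₀)
    have hmem : u ^ k * ι (A₀ ^ k) ∈ J.map ι := by
      have h0 : e ^ k = 0 := by rw [pow_succ, hk₀, zero_mul]
      have h1 := geom_sum₂_mul (u * ι A₀) e k
      rw [h0, sub_zero] at h1
      rw [map_pow, ← mul_pow, ← h1]
      rw [show u * ι A₀ - e = (s * y) ^ n * ι B₀ by simp only [e]; ring, mul_comm, mul_assoc]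
      rw [Ideal.map_mul, Ideal.map_mul, Ideal.map_pow]
      refine Ideal.mul_mem_mul hπ (Ideal.mul_mem_mul (Ideal.mem_map_of_mem _ (Ideal.mem_span_singleton_self _)) ?_)
      refine Ideal.sum_mem _ fun i hi => ?_
      rw [Finset.mem_range] at hi
      have hA₀ : ι A₀ ∈ L.map ι := Ideal.mem_map_of_mem _ (Ideal.subset_span (by simp))
      have hB₀ : ι B₀ ∈ L.map ι := Ideal.mem_map_of_mem _ (Ideal.subset_span (by simp))
      have h2 := Ideal.mul_mem_mul (Ideal.pow_mem_pow (Ideal.mul_mem_left _ u hA₀) i)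
        (Ideal.pow_mem_pow (show e ∈ L.map ι from sub_mem (Ideal.mul_mem_left _ _ hA₀) (Ideal.mul_mem_left _ _ hB₀))
          (k - 1 - i))
      rwa [← pow_add, show i + (k - 1 - i) = k₀ by omega] at h2
    obtain ⟨r, hrp, hr⟩ := exists_notMem_mul_mem A J (A₀ ^ k) p 𝔮 (Ideal.map_le_iff_le_comap.mpr h𝔮p.ge) (u ^ k)
      (fun h => (Ideal.IsPrime.mem_or_mem inferInstance (h𝔮.isPrime.mem_of_pow_mem n
        (h𝔮.isPrime.mem_of_pow_mem k h))).elim hs𝔮 hc𝔮) hmem
    let f := algebraMap A A'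
    have hxab : f A₀ = f B₀ * x ^ n := Subtype.ext (by
      change algebraMap A K (a ^ n) = algebraMap A K (b ^ n) * (x : K) ^ n
      rw [map_pow, map_pow, ← mul_pow, ← hab, mul_div_cancel₀ _ hb0])
    have hJle : J.map f ≤ Ideal.span {f B₀ ^ k} * p.map f := by
      have hL : L.map f ≤ Ideal.span {f B₀} := by
        rw [Ideal.map_span, Ideal.span_le]
        rintro _ ⟨z, hz, rfl⟩
        rcases hz with rfl | rfl
        · rw [hxab]; exact Ideal.mul_mem_right _ _ (Ideal.mem_span_singleton_self _)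
        · exact Ideal.mem_span_singleton_self _
      rw [Ideal.map_mul, Ideal.map_mul, Ideal.map_pow, Ideal.map_span, Set.image_singleton, mul_comm (p.map f),
        ← Ideal.span_singleton_pow, show k = k₀ + 1 from rfl, pow_succ' (Ideal.span {f B₀})]
      exact Ideal.mul_mono_left (Ideal.mul_mono_right (Ideal.pow_right_mono hL k₀))
    obtain ⟨w, hw, hwe⟩ := Ideal.mem_span_singleton_mul.mp (hJle (Ideal.mem_map_of_mem f hr))
    have hrx : f r * x ^ (n * k) = w := by
      have hB : f B₀ ^ k ≠ 0 := pow_ne_zero _ fun h => hb0 (eq_zero_of_pow_eq_zero (n := n) (by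
        rw [← map_pow]; exact congrArg Subtype.val h))
      refine mul_left_cancel₀ hB ?_
      rw [hwe, map_mul, map_pow f A₀ k, hxab, mul_pow, ← pow_mul]
      ring
    have hwP : f r * x ^ (n * k) ∈ P := hrx ▸ (Ideal.map_le_iff_le_comap.mpr hPp.ge hw)
    exact hP.mem_of_pow_mem _ ((hP.mem_or_mem hwP).resolve_left fun h => hrp (hPp ▸ h))

end Groth.Agent.MoriNagata
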